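import Mathlib

set_option autoImplicit false

open CategoryTheory Opposite Simplicial SSet

namespace Groth.Agent.SimpGroup

universe u

variable {Z W : SSet.{u}} [∀ n, Group (Z.obj n)]

/-- Moore's filler: a map out of a simplicial group whose fibres are torsors is a Kan fibration. -/
lemma exists_filler (hmul : ∀ {m n : SimplexCategoryᵒᵖ} (φ : m ⟶ n) (a b : Z.obj m),
      Z.map φ (a * b) = Z.map φ a * Z.map φ b)
    (g : Z ⟶ W) (hg : ∀ n, Function.Surjective (g.app n))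
    (hker : ∀ n (a b x : Z.obj n), g.app n a = g.app n b → g.app n (x * (a⁻¹ * b)) = g.app n x)
    {n : ℕ} (k : Fin (n + 2)) (xs : ∀ j : Fin (n + 2), j ≠ k → Z _⦋n⦌) (y : W _⦋n + 1⦌)
    (hy : ∀ j (hj : j ≠ k), g.app _ (xs j hj) = W.δ j y)
    (hcompat : ∀ (l : ℕ) (h : n = l + 1) (i : Fin (l + 2)) (j : Fin (l + 3))
      (hij : Fin.castSucc i < j) (hi : (Fin.cast (by omega) (Fin.castSucc i) : Fin (n + 2)) ≠ k)
      (hj : (Fin.cast (by omega) j : Fin (n + 2)) ≠ k),
      Z.δ i (cast (by rw [h]) (xs _ hj) : Z _⦋l + 1⦌) =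
        Z.δ (j.pred (Fin.ne_zero_of_lt hij)) (cast (by rw [h]) (xs _ hi) : Z _⦋l + 1⦌)) :
    ∃ x : Z _⦋n + 1⦌, g.app _ x = y ∧ ∀ j (hj : j ≠ k), Z.δ j x = xs j hj := by
  have hnat : ∀ {m l : SimplexCategoryᵒᵖ} (φ : m ⟶ l) (a : Z.obj m),
      g.app l (Z.map φ a) = W.map φ (g.app m a) := fun φ a => g.naturality_apply φ a
  have hone : ∀ {m l : SimplexCategoryᵒᵖ} (φ : m ⟶ l), Z.map φ (1 : Z.obj m) = 1 := fun φ => by
    have := hmul φ 1 1; rwa [one_mul, left_eq_mul] at this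
  have hinv : ∀ {m l : SimplexCategoryᵒᵖ} (φ : m ⟶ l) (a : Z.obj m),
      Z.map φ a⁻¹ = (Z.map φ a)⁻¹ := fun φ a => by
    refine eq_inv_of_mul_eq_one_left ?_
    rw [← hmul, inv_mul_cancel, hone]
  -- one correction step at the face `m`, using the degeneracy `s`
  have step : ∀ (x : Z _⦋n + 1⦌) (m : Fin (n + 2)) (hm : m ≠ k) (s : Fin (n + 1)),
      g.app _ x = y → (Z.σ s ≫ Z.δ m = 𝟙 _) →
      ∃ x', g.app _ x' = y ∧ Z.δ m x' = xs m hm ∧
        ∀ j, Z.δ j (Z.σ s ((Z.δ m x)⁻¹ * xs m hm)) = 1 → Z.δ j x' = Z.δ j x := by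
    intro x m hm s hx hid
    refine ⟨x * Z.σ s ((Z.δ m x)⁻¹ * xs m hm), ?_, ?_, fun j hj => ?_⟩
    · have : Z.σ s ((Z.δ m x)⁻¹ * xs m hm) = (Z.σ s (Z.δ m x))⁻¹ * Z.σ s (xs m hm) := by
        change Z.map _ _ = (Z.map _ _)⁻¹ * Z.map _ _
        rw [hmul, hinv]
      rw [this, hker _ _ _ _ ?_, hx]
      change g.app _ (Z.map _ (Z.map _ x)) = g.app _ (Z.map _ (xs m hm))
      rw [hnat, hnat, hnat, hx, hy m hm]; rfl
    · have h2 : ∀ e, Z.δ m (Z.σ s e) = e := fun e => by
        have := ConcreteCategory.congr_hom hid e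
        simpa using this
      change Z.map _ (x * _) = _
      rw [hmul]
      exact (congrArg _ (h2 _)).trans (mul_inv_cancel_left _ _)
    · change Z.map _ (x * _) = _
      rw [hmul]
      exact (congrArg _ hj).trans (mul_one _)
  obtain ⟨x₀, hx₀⟩ := hg _ y
  obtain _ | l := n
  · -- only one face to correct
    obtain ⟨m, hm⟩ : ∃ m : Fin 2, m ≠ k := exists_ne k
    have hid : Z.σ (0 : Fin 1) ≫ Z.δ m = 𝟙 _ := by
      fin_cases m
      · exact SimplicialObject.δ_comp_σ_self Z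
      · exact SimplicialObject.δ_comp_σ_succ Z
    obtain ⟨x', h1, h2, -⟩ := step x₀ m hm 0 hx₀ hid
    refine ⟨x', h1, fun j hj => ?_⟩
    obtain rfl : j = m := by omega
    exact h2
  have hδδ : ∀ (x : Z _⦋l + 2⦌) (i : Fin (l + 2)) (j : Fin (l + 3)) (hij : i.castSucc < j),
      Z.δ i (Z.δ j x) = Z.δ (j.pred (Fin.ne_zero_of_lt hij)) (Z.δ i.castSucc x) := fun x i j hij => by
    have := ConcreteCategory.congr_hom (SimplicialObject.δ_comp_δ' Z hij) x
    simpa using this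
  have lo : ∀ t : ℕ, t ≤ k.val → ∃ x, g.app _ x = y ∧
      ∀ j (hj : j ≠ k), j.val < t → Z.δ j x = xs j hj := by
    intro t
    induction t with
    | zero => exact fun _ => ⟨x₀, hx₀, fun j hj h => absurd h (by omega)⟩
    | succ t ih =>
      intro ht
      obtain ⟨x, hx, hj'⟩ := ih (by omega)
      have hm : (⟨t, by omega⟩ : Fin (l + 3)) ≠ k := by intro h; rw [← h] at ht; simp at ht
      obtain ⟨x', h1, h2, h3⟩ := step x ⟨t, by omega⟩ hm ⟨t, by omega⟩ hx
        (SimplicialObject.δ_comp_σ_self' Z (by ext; rfl))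
      have htlt : t < l + 3 := by omega
      refine ⟨x', h1, fun j hj hlt => ?_⟩
      by_cases hjt : j.val = t
      · obtain rfl : j = ⟨t, htlt⟩ := Fin.ext hjt
        exact h2
      have hjt' : j.val < t := by omega
      rw [h3 j, hj' j hj hjt']
      obtain ⟨j', rfl⟩ := Fin.eq_castSucc_of_ne_last (show j ≠ Fin.last (l + 2) by
        intro h; rw [h] at hjt'; simp at hjt'; omega)
      have key := ConcreteCategory.congr_hom (SimplicialObject.δ_comp_σ_of_le Z (i := j')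
        (j := ⟨t - 1, by omega⟩) (by rw [Fin.le_def]; simp at hjt' ⊢; omega))
      have hs : (⟨t, by omega⟩ : Fin (l + 2)) = Fin.succ (⟨t - 1, by omega⟩ : Fin (l + 1)) := by
        ext; simp at hjt' ⊢; omega
      rw [hs]
      refine (key _).trans ?_
      change Z.map _ (Z.map _ _) = 1
      rw [hmul _ (Z.δ _ x)⁻¹, hinv]
      have e1 := hδδ x j' ⟨t, by omega⟩ (by rw [Fin.lt_def]; exact hjt')
      have e2 := hcompat l rfl j' ⟨t, by omega⟩ (by rw [Fin.lt_def]; exact hjt') hj hm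
      simp only [cast_eq, Fin.cast_eq_self] at e2
      change Z.map _ ((Z.δ j' (Z.δ _ x))⁻¹ * Z.δ j' _) = 1
      rw [e1, hj' _ hj hjt', ← show Z.δ j' (xs ⟨t, by omega⟩ hm) = _ from e2, inv_mul_cancel, hone]
  have hi : ∀ t : ℕ, t ≤ l + 2 - k.val → ∃ x, g.app _ x = y ∧
      ∀ j (hj : j ≠ k), (j.val < k.val ∨ l + 2 < j.val + t) → Z.δ j x = xs j hj := by
    intro t
    induction t with
    | zero =>
      intro _
      obtain ⟨x, hx, h⟩ := lo k.val le_rfl
      exact ⟨x, hx, fun j hj h' => h j hj (by omega)⟩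
    | succ t ih =>
      intro ht
      obtain ⟨x, hx, hj'⟩ := ih (by omega)
      have hm : (⟨l + 2 - t, by omega⟩ : Fin (l + 3)) ≠ k := by
        intro h; rw [← h] at ht; simp at ht; omega
      obtain ⟨x', h1, h2, h3⟩ := step x ⟨l + 2 - t, by omega⟩ hm ⟨l + 2 - t - 1, by omega⟩ hx
        (SimplicialObject.δ_comp_σ_succ' Z (by ext; simp; omega))
      have htlt : l + 2 - t < l + 3 := by omega
      refine ⟨x', h1, fun j hj hlt => ?_⟩
      by_cases hjt : j.val = l + 2 - t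
      · obtain rfl : j = ⟨l + 2 - t, htlt⟩ := Fin.ext hjt
        exact h2
      have hlt' : j.val < k.val ∨ l + 2 < j.val + t := by omega
      rw [h3 j, hj' j hj hlt']
      rcases hlt' with hjk | hjk
      · obtain ⟨j', rfl⟩ := Fin.eq_castSucc_of_ne_last (show j ≠ Fin.last (l + 2) by
          intro h; rw [h] at hjk; simp at hjk; omega)
        have hj'k : j'.val < l + 2 - t - 1 := by simp at hjk; omega
        have key := ConcreteCategory.congr_hom (SimplicialObject.δ_comp_σ_of_le Z (i := j')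
          (j := ⟨l + 2 - t - 1 - 1, by omega⟩) (by rw [Fin.le_def]; simp; omega))
        have hs : (⟨l + 2 - t - 1, by omega⟩ : Fin (l + 2)) =
            Fin.succ (⟨l + 2 - t - 1 - 1, by omega⟩ : Fin (l + 1)) := by ext; simp; omega
        rw [hs]
        refine (key _).trans ?_
        change Z.map _ (Z.map _ _) = 1
        rw [hmul _ (Z.δ _ x)⁻¹, hinv]
        have hlt2 : j'.castSucc < (⟨l + 2 - t, by omega⟩ : Fin (l + 3)) := by
          rw [Fin.lt_def]; simp; omega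
        have e1 := hδδ x j' ⟨l + 2 - t, by omega⟩ hlt2
        have e2 := hcompat l rfl j' ⟨l + 2 - t, by omega⟩ hlt2 hj hm
        simp only [cast_eq, Fin.cast_eq_self] at e2
        change Z.map _ ((Z.δ j' (Z.δ _ x))⁻¹ * Z.δ j' _) = 1
        rw [e1, hj' _ hj (Or.inl hjk), ← show Z.δ j' (xs ⟨l + 2 - t, by omega⟩ hm) = _ from e2,
          inv_mul_cancel, hone]
      · obtain ⟨j', rfl⟩ := Fin.eq_succ_of_ne_zero (show j ≠ 0 by
          intro h; rw [h] at hjk; simp at hjk; omega)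
        simp only [Fin.val_succ] at hjk
        have key := ConcreteCategory.congr_hom (SimplicialObject.δ_comp_σ_of_gt Z (i := j')
          (j := ⟨l + 2 - t - 1, by omega⟩) (by rw [Fin.lt_def]; simp; omega))
        have hs : (⟨l + 2 - t - 1, by omega⟩ : Fin (l + 2)) =
            Fin.castSucc (⟨l + 2 - t - 1, by omega⟩ : Fin (l + 1)) := by ext; simp
        rw [hs]
        refine (key _).trans ?_
        change Z.map _ (Z.map _ _) = 1
        rw [hmul _ (Z.δ _ x)⁻¹, hinv]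
        have hlt2 : (⟨l + 2 - t, by omega⟩ : Fin (l + 2)).castSucc < j'.succ := by
          rw [Fin.lt_def]; simp; omega
        have e1 := hδδ x ⟨l + 2 - t, by omega⟩ j'.succ hlt2
        have e2 := hcompat l rfl ⟨l + 2 - t, by omega⟩ j'.succ hlt2 hm hj
        simp only [Fin.pred_succ] at e1
        simp only [cast_eq, Fin.cast_eq_self, Fin.pred_succ] at e2
        change Z.map _ ((Z.δ j' (Z.δ _ x))⁻¹ * Z.δ j' _) = 1
        rw [show Z.δ j' (Z.δ (⟨l + 2 - t, by omega⟩ : Fin (l + 3)) x) = Z.δ (⟨l + 2 - t, by omega⟩ : Fin (l + 2)) (Z.δ j'.succ x) from e1.symm, hj' _ hj (Or.inr (by simp; omega)),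
          show Z.δ (⟨l + 2 - t, by omega⟩ : Fin (l + 2)) (xs j'.succ hj) = Z.δ j' (xs _ hm) from e2,
          inv_mul_cancel, hone]
  obtain ⟨x, hx, h⟩ := hi _ le_rfl
  exact ⟨x, hx, fun j hj => h j hj (by have := Fin.val_ne_of_ne hj; omega)⟩

lemma rlp_J (hmul : ∀ {m n : SimplexCategoryᵒᵖ} (φ : m ⟶ n) (a b : Z.obj m),
      Z.map φ (a * b) = Z.map φ a * Z.map φ b)
    (g : Z ⟶ W) (hg : ∀ n, Function.Surjective (g.app n))
    (hker : ∀ n (a b x : Z.obj n), g.app n a = g.app n b → g.app n (x * (a⁻¹ * b)) = g.app n x) :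
    modelCategoryQuillen.J.rlp g := by
  intro A B i hi
  simp only [modelCategoryQuillen.J, MorphismProperty.iSup_iff] at hi
  obtain ⟨n, ⟨k⟩⟩ := hi
  refine ⟨fun {top bot} sq => ⟨?_⟩⟩
  obtain ⟨x, hx, hxj⟩ := exists_filler hmul g hg hker k
    (fun j hj => yonedaEquiv (horn.ι k j hj ≫ top)) (yonedaEquiv bot)
    (fun j hj => by
      rw [← stdSimplex.yonedaEquiv_δ_comp, ← horn.ι_ι k j hj, Category.assoc, ← sq.w,
        ← Category.assoc, SSet.yonedaEquiv_comp (horn.ι k j hj ≫ top) g])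
    (fun l h i j hij hi hj => by
      subst h
      simp only [cast_eq]
      rw [← stdSimplex.yonedaEquiv_δ_comp, ← stdSimplex.yonedaEquiv_δ_comp, ← Category.assoc,
        ← Category.assoc]
      congr 2
      rw [← cancel_mono (Subcomplex.ι _), Category.assoc, Category.assoc, horn.ι_ι, horn.ι_ι]
      exact stdSimplex.{u}.δ_comp_δ' hij)
  refine ⟨⟨yonedaEquiv.symm x, horn.hom_ext' fun j hj => ?_, yonedaEquiv.injective ?_⟩⟩
  · rw [horn.ι_ι_assoc, stdSimplex.δ_comp_yonedaEquiv_symm, hxj j hj, Equiv.symm_apply_apply]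
  · rw [SSet.yonedaEquiv_comp, Equiv.apply_symm_apply, hx]

end Groth.Agent.SimpGroup
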